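import Groth.Agent.FlatMor.PC.Stalks
import Groth.Agent.FlatMor.LmulFlat
import Mathlib.RingTheory.RingHom.StandardSmooth
import Mathlib.RingTheory.TensorProduct.MvPolynomial

/-!
# Tor dimension over a smooth algebra of a module flat over the base
-/

set_option autoImplicit false
set_option linter.style.haveILetI false

universe u

open CategoryTheory
open scoped TensorProduct

attribute [local instance] HasDerivedCategory.standard

namespace Groth.Agent.GITLib.TorSmooth

/-- A quotient by a nonzerodivisor has tor dimension at most one. -/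
theorem hasTorDimLE_quot_nzd {D D' : Type u} [CommRing D] [CommRing D'] [Algebra D D']
    (hs : Function.Surjective (algebraMap D D')) (g : D) (hg : ∀ x : D, x * g = 0 → x = 0)
    (hker : RingHom.ker (algebraMap D D') = Ideal.span {g}) : DRing.HasTorDimLE D 1 D' := by
  let f : D →ₗ[D] D' := Algebra.linearMap D D'
  let e : D →ₗ[D] LinearMap.ker f :=
    (LinearMap.toSpanSingleton D D g).codRestrict (LinearMap.ker f) fun x => by
      show algebraMap D D' (x • g) = 0
      rw [smul_eq_mul, map_mul, show algebraMap D D' g = 0 from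
        (hker ▸ Ideal.mem_span_singleton_self g : g ∈ RingHom.ker (algebraMap D D')), mul_zero]
  have he : Function.Bijective e := by
    refine ⟨fun x y h => sub_eq_zero.1 (hg _ ?_), fun ⟨x, hx⟩ => ?_⟩
    · rw [sub_mul]
      exact sub_eq_zero.2 (congrArg Subtype.val h)
    · have hx' : x ∈ RingHom.ker (algebraMap D D') := hx
      rw [hker] at hx'
      obtain ⟨a, ha⟩ := Ideal.mem_span_singleton'.1 hx'
      exact ⟨a, Subtype.ext ha⟩
  haveI : Module.Flat D (LinearMap.ker f) := Module.Flat.of_linearEquiv (LinearEquiv.ofBijective e he).symm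
  exact (FlatMor.PC.hasTorDimLE_ker_iff f hs 0).1 (FlatMor.PC.hasTorDimLE_of_flat 0 _)

theorem hasTorDimLE_quot_nzd' {D D' : Type u} [CommRing D] [CommRing D'] (φ : D →+* D')
    (hs : Function.Surjective φ) (g : D) (hg : ∀ x : D, x * g = 0 → x = 0) (hker : RingHom.ker φ = Ideal.span {g}) :
    letI := φ.toAlgebra; DRing.HasTorDimLE D 1 D' :=
  letI := φ.toAlgebra
  hasTorDimLE_quot_nzd hs g hg hker

/-- Ascent of a tor dimension bound along a weakly etale map. -/
theorem hasTorDimLE_weaklyEtale (A B : Type u) [CommRing A] [CommRing B] [Algebra A B]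
    [Algebra.WeaklyEtale A B] : ∀ (d : ℕ) (N : Type u) [AddCommGroup N] [Module A N] [Module B N]
      [IsScalarTower A B N], DRing.HasTorDimLE A d N → DRing.HasTorDimLE B d N := by
  have hflatB : Module.Flat A B := Algebra.WeaklyEtale.flat
  have hdiag : (Algebra.TensorProduct.lmul' A (S := B)).Flat := Algebra.WeaklyEtale.flat_lmul' A B
  intro d
  induction d with
  | zero =>
    intro N _ _ _ _ h
    have : Module.Flat A N := (DRing.TorBalance.hasTorDimLE_zero_iff N).1 h
    have : Module.Flat B N := FlatMor.LmulFlat.flat_of_flat_lmul A B hdiag N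
    exact (DRing.TorBalance.hasTorDimLE_zero_iff N).2 this
  | succ d ih =>
    intro N _ _ _ _ h
    let g : (N →₀ B) →ₗ[B] N := Finsupp.linearCombination B id
    have hg : Function.Surjective g := fun n => ⟨Finsupp.single n 1, by simp [g]⟩
    have : Module.Flat A (N →₀ B) := Module.Flat.trans A B (N →₀ B)
    let e : ↥(LinearMap.ker (g.restrictScalars A)) ≃ₗ[A] ↥(LinearMap.ker g) :=
      { toFun := fun x => ⟨x.1, x.2⟩, invFun := fun x => ⟨x.1, x.2⟩, map_add' := fun _ _ => rfl,
        map_smul' := fun _ _ => rfl }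
    exact (FlatMor.PC.hasTorDimLE_ker_iff g hg d).1 (ih _ (FlatMor.PC.hasTorDimLE_congr e
      ((FlatMor.PC.hasTorDimLE_ker_iff (g.restrictScalars A) hg d).2 h)))

/-- Eliminating the first variable at a constant. -/
theorem exists_step (C : Type u) [CommRing C] (n : ℕ) (c₀ : C) :
    ∃ (b : MvPolynomial (Fin (n + 1)) C →ₐ[C] MvPolynomial (Fin n) C) (g : MvPolynomial (Fin (n + 1)) C),
      b (MvPolynomial.X 0) = MvPolynomial.C c₀ ∧ (∀ j : Fin n, b (MvPolynomial.X j.succ) = MvPolynomial.X j) ∧
      Function.Surjective b ∧ (∀ x, x * g = 0 → x = 0) ∧ RingHom.ker b.toRingHom = Ideal.span {g} := by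
  let fe := MvPolynomial.finSuccEquiv C n
  let ev : Polynomial (MvPolynomial (Fin n) C) →ₐ[C] MvPolynomial (Fin n) C :=
    (Polynomial.aeval (MvPolynomial.C c₀ : MvPolynomial (Fin n) C)).restrictScalars C
  refine ⟨ev.comp fe.toAlgHom, fe.symm (Polynomial.X - Polynomial.C (MvPolynomial.C c₀)), ?_, fun j => ?_,
    fun x => ⟨fe.symm (Polynomial.C x), ?_⟩, fun x hx => ?_, ?_⟩
  · show ev (fe (MvPolynomial.X 0)) = _
    rw [MvPolynomial.finSuccEquiv_X_zero]
    exact Polynomial.aeval_X _
  · show ev (fe (MvPolynomial.X j.succ)) = _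
    rw [MvPolynomial.finSuccEquiv_X_succ]
    exact Polynomial.aeval_C _ _
  · show ev (fe (fe.symm _)) = x
    rw [AlgEquiv.apply_symm_apply]
    exact Polynomial.aeval_C _ _
  · have := congrArg fe hx
    rw [map_mul, AlgEquiv.apply_symm_apply, map_zero] at this
    exact (map_eq_zero_iff fe fe.injective).1 ((Polynomial.monic_X_sub_C _).mul_left_eq_zero_iff.1 this)
  · have hev : RingHom.ker ev.toRingHom = Ideal.span {Polynomial.X - Polynomial.C (MvPolynomial.C c₀)} := by
      rw [← Polynomial.ker_evalRingHom]
      ext q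
      rw [RingHom.mem_ker, RingHom.mem_ker]
      exact Iff.of_eq (congrArg (· = 0) (Polynomial.coe_aeval_eq_eval (MvPolynomial.C c₀) ▸ rfl))
    ext x
    show fe x ∈ RingHom.ker ev.toRingHom ↔ _
    rw [hev, Ideal.mem_span_singleton, Ideal.mem_span_singleton]
    exact ⟨fun h => by simpa using map_dvd fe.symm h, fun h => by simpa using map_dvd fe h⟩

/-- A section of a polynomial algebra has tor dimension at most the number of variables. -/
theorem hasTorDimLE_section (C : Type u) [CommRing C] :
    ∀ (n : ℕ) [Algebra (MvPolynomial (Fin n) C) C] [IsScalarTower C (MvPolynomial (Fin n) C) C],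
      DRing.HasTorDimLE (MvPolynomial (Fin n) C) n C := by
  intro n
  induction n with
  | zero =>
    intro _ _
    let e : MvPolynomial (Fin 0) C ≃ₗ[MvPolynomial (Fin 0) C] C :=
      LinearEquiv.ofBijective (Algebra.linearMap (MvPolynomial (Fin 0) C) C) ⟨fun x y h => by
        obtain ⟨a, rfl⟩ := MvPolynomial.C_surjective (Fin 0) x
        obtain ⟨b, rfl⟩ := MvPolynomial.C_surjective (Fin 0) y
        simp only [Algebra.linearMap_apply, ← MvPolynomial.algebraMap_eq, ← IsScalarTower.algebraMap_apply,
          Algebra.algebraMap_self, RingHom.id_apply] at h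
        rw [h], fun c => ⟨algebraMap C _ c, by
          rw [Algebra.linearMap_apply, ← IsScalarTower.algebraMap_apply]; rfl⟩⟩
    exact FlatMor.PC.hasTorDimLE_congr e (FlatMor.PC.hasTorDimLE_of_flat 0 _)
  | succ n ih =>
    intro _ _
    let P := MvPolynomial (Fin (n + 1)) C
    let Q := MvPolynomial (Fin n) C
    let v : Fin (n + 1) → C := fun i => algebraMap P C (MvPolynomial.X i)
    let aC : Q →ₐ[C] C := MvPolynomial.aeval fun i => v i.succ
    obtain ⟨b, g, hb0, hbs, hbsurj, hg, hker⟩ := exists_step C n (v 0)
    letI := aC.toRingHom.toAlgebra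
    haveI : IsScalarTower C Q C := IsScalarTower.of_algebraMap_eq fun x => (aC.commutes x).symm
    letI := b.toRingHom.toAlgebra
    have hv : (IsScalarTower.toAlgHom C P C) = aC.comp b := MvPolynomial.algHom_ext fun i => by
      refine Fin.cases ?_ (fun j => ?_) i
      · show v 0 = aC (b (MvPolynomial.X 0))
        rw [hb0, MvPolynomial.aeval_C]
        rfl
      · show v j.succ = aC (b (MvPolynomial.X j.succ))
        rw [hbs, MvPolynomial.aeval_X]
    haveI : IsScalarTower P Q C := IsScalarTower.of_algebraMap_eq fun x => DFunLike.congr_fun hv x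
    have h1 := hasTorDimLE_quot_nzd' b.toRingHom hbsurj g hg hker
    have h2 : DRing.HasTorDimLE Q n C := ih
    exact (FlatMor.PC.hasTorDimLE_mono (e := n + 1) (by omega) (FlatMor.PC.hasTorDimLE_trans h1 h2))

attribute [local instance] MvPolynomial.algebraMvPolynomial

theorem flat_poly (n : ℕ) (A C : Type u) [CommRing A] [CommRing C] [Algebra A C] [Module.Flat A C] :
    Module.Flat (MvPolynomial (Fin n) A) (MvPolynomial (Fin n) C) := by
  have hb : IsBaseChange (MvPolynomial (Fin n) A) (IsScalarTower.toAlgHom A C (MvPolynomial (Fin n) C)).toLinearMap :=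
    Algebra.IsPushout.out
  exact Module.Flat.of_linearEquiv hb.equiv.symm

/-- Over a smooth algebra of relative dimension `n` an algebra flat over the base has tor dimension at most `n`. -/
theorem hasTorDimLE_of_standardSmooth (n : ℕ) {A B C : Type u} [CommRing A] [CommRing B] [CommRing C]
    [Algebra A B] [Algebra B C] [Algebra A C] [IsScalarTower A B C] [Module.Flat A C]
    [Algebra.IsStandardSmoothOfRelativeDimension n A B] : DRing.HasTorDimLE B n C := by
  obtain ⟨g, hg⟩ := Algebra.IsStandardSmoothOfRelativeDimension.exists_etale_mvPolynomial n A B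
  let P := MvPolynomial (Fin n) A
  have hflat := flat_poly n A C
  letI : Algebra P B := g.toRingHom.toAlgebra
  haveI : Algebra.Etale P B := hg
  letI : Algebra P C := ((algebraMap B C).comp g.toRingHom).toAlgebra
  haveI : IsScalarTower P B C := IsScalarTower.of_algebraMap_eq fun _ => rfl
  haveI : IsScalarTower A P C := IsScalarTower.of_algebraMap_eq fun x => by
    show _ = algebraMap B C (g (algebraMap A P x))
    rw [g.commutes, ← IsScalarTower.algebraMap_apply]
  let π : MvPolynomial (Fin n) C →ₐ[C] C := MvPolynomial.aeval fun i => algebraMap P C (MvPolynomial.X i)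
  letI := π.toRingHom.toAlgebra
  haveI : IsScalarTower C (MvPolynomial (Fin n) C) C := IsScalarTower.of_algebraMap_eq fun x => (π.commutes x).symm
  letI : Algebra P (MvPolynomial (Fin n) C) := MvPolynomial.algebraMvPolynomial
  letI : Module P (MvPolynomial (Fin n) C) := Algebra.toModule
  letI : SMul P (MvPolynomial (Fin n) C) := Algebra.toSMul
  haveI : IsScalarTower P (MvPolynomial (Fin n) C) C := by
    refine IsScalarTower.of_algebraMap_eq' ?_
    refine MvPolynomial.ringHom_ext (fun r => ?_) fun i => ?_
    · show algebraMap P C (MvPolynomial.C r) = π (MvPolynomial.map (algebraMap A C) (MvPolynomial.C r))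
      rw [MvPolynomial.map_C, MvPolynomial.aeval_C, Algebra.algebraMap_self, RingHom.id_apply,
        ← MvPolynomial.algebraMap_eq, ← IsScalarTower.algebraMap_apply]
    · show algebraMap P C (MvPolynomial.X i) = π (MvPolynomial.map (algebraMap A C) (MvPolynomial.X i))
      rw [MvPolynomial.map_X, MvPolynomial.aeval_X]
  haveI : Module.Flat P (MvPolynomial (Fin n) C) := hflat
  have h : DRing.HasTorDimLE P (0 + n) C :=
    FlatMor.PC.hasTorDimLE_trans (B := MvPolynomial (Fin n) C) (FlatMor.PC.hasTorDimLE_of_flat 0 _)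
      (hasTorDimLE_section C n)
  rw [Nat.zero_add] at h
  exact hasTorDimLE_weaklyEtale P B n C h

/-- Tor dimension bound over a localisation of the base. -/
theorem hasTorDimLE_of_localization_base (n : ℕ) {B B' C : Type u} [CommRing B] [CommRing B'] [CommRing C]
    [Algebra B B'] [Algebra B C] [Algebra B' C] [IsScalarTower B B' C] (M : Submonoid B)
    [IsLocalization M B'] (h : DRing.HasTorDimLE B n C) : DRing.HasTorDimLE B' n C := by
  have : Module.Flat B B' := IsLocalization.flat B' M
  have : IsLocalization (Algebra.algebraMapSubmonoid C M) C := by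
    refine IsLocalization.self ?_
    rintro _ ⟨m, hm, rfl⟩
    rw [IsUnit.mem_submonoid_iff, IsScalarTower.algebraMap_apply B B' C]
    exact (IsLocalization.map_units B' (⟨m, hm⟩ : M)).map _
  have : Algebra.IsPushout B B' C C := (Algebra.isPushout_of_isLocalization M B' C C).symm
  have hb : IsBaseChange B' (IsScalarTower.toAlgHom B C C).toLinearMap := Algebra.IsPushout.out
  exact FlatMor.PC.hasTorDimLE_congr hb.equiv (FlatMor.PC.hasTorDimLE_tensor h)

end Groth.Agent.GITLib.TorSmooth
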